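import Cfsg.Agent.H10.HeT.H1.RChk0

set_option autoImplicit false
set_option linter.all false

namespace Cfsg.Agent.H10.HeT

open Cfsg.Agent.H35 Cfsg.Spor

theorem h1_rall : ∀ p, p < 120 → h1_rf p = true := by
  apply allR_blocks h1_rf 120 10 1 _ (by decide)
  intro k hk
  interval_cases k
  · exact h1_rchk_0

theorem h1_circ_ok : circChk (fullW h1_rws h1_prels) h1_circT 0 h1_ccert = true := by decide +kernel
theorem h1_hc_ok : allR (fun c => hcChk h1_rsw h1_hc1T h1_hc2T c) 0 0 0 = true := by decide +kernel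
theorem h1_h0 : RData.aord (h1_rd.ent 0 1) = 0 := by decide +kernel

end Cfsg.Agent.H10.HeT
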